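import Cfsg.Agent.Th.E8Recipe
import Cfsg.Agent.ChevalleyStructure.Elts
import Cfsg.Prelude.Def_ChevE6
import Cfsg.Agent.KFacts.TwESix.Comb
import Cfsg.Agent.FastGrp
import Cfsg.Agent.Prune
set_option linter.all false
prune_inst 0x7f00000000000000000000000000000000000000000000000000000000000000000000000000000000000000000000000000000000000000000000000000000000000000000000000000000000000000003fffffffffdfffffffffffffffffbeffbdffffffff
open scoped Cfsg.Agent.FastGrp

-- part: H891/TE6/Eng
section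
/-!
# Words in root elements over the field with four elements (helper891)

A row vector over `K`, `|K| = 4`, is a natural number: coordinate `k` is the pair of bits `2k, 2k+1`, standing for
`b₀ + b₁ ω`, `ω ^ 2 + ω + 1 = 0`.  `step ℓ` is the action of the root element `x_r(ω ^ τ)`, `run` that of a word.

* `vecMul_wdG` : correctness;
* `eq_of_eqw` : equality of words; `Cert` : a word moves a vector in a cycle of prime length.
-/

set_option autoImplicit false
set_option linter.unusedSectionVars false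

namespace Cfsg.Agent.H891.TE6.Eng

open Cfsg Cfsg.Lie Cfsg.Agent.Th.E8Recipe Cfsg.Agent.ChevalleyStructure.Elts
open scoped Matrix

/-- evaluation of the argument first -/
def force {α : Type} (n : ℕ) (f : ℕ → α) : α := Nat.rec (f 0) (fun m _ => f (Nat.succ m)) n

theorem force_eq {α : Type} (n : ℕ) (f : ℕ → α) : force n f = f n := by
  cases n <;> rfl

/-- `0101…01`, `N` fields -/
def msk : ℕ → ℕ
  | 0 => 0
  | n + 1 => 4 * msk n + 1

theorem msk_even (n k : ℕ) : (msk n).testBit (2 * k) = decide (k < n) := by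
  induction n generalizing k with
  | zero => simp [msk]
  | succ n ih =>
    have h1 : msk (n + 1) = 4 * msk n + 1 := rfl
    rcases k with _ | k
    · rw [mul_zero, Nat.testBit_zero, h1]
      have : (4 * msk n + 1) % 2 = 1 := by omega
      rw [this]; simp
    · have h2 : 2 * (k + 1) = (2 * k) + 1 + 1 := by ring
      rw [h2, Nat.testBit_succ, Nat.testBit_succ, h1]
      have : (4 * msk n + 1) / 2 / 2 = msk n := by omega
      rw [this, ih]
      simp

theorem msk_odd (n k : ℕ) : (msk n).testBit (2 * k + 1) = false := by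
  induction n generalizing k with
  | zero => simp [msk]
  | succ n ih =>
    have h1 : msk (n + 1) = 4 * msk n + 1 := rfl
    rcases k with _ | k
    · rw [mul_zero, zero_add, Nat.testBit_succ, Nat.testBit_zero, h1]
      have : (4 * msk n + 1) / 2 % 2 = 0 := by omega
      rw [this]; simp
    · have h2 : 2 * (k + 1) + 1 = (2 * k + 1) + 1 + 1 := by ring
      rw [h2, Nat.testBit_succ, Nat.testBit_succ, h1]
      have : (4 * msk n + 1) / 2 / 2 = msk n := by omega
      rw [this, ih]

/-- multiplication of all coordinates by `ω` -/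
def mulw (M : ℕ) (s : ℕ) : ℕ :=
  force (Nat.land s M) fun a => force (Nat.land (Nat.shiftRight s 1) M) fun b =>
    Nat.xor b (Nat.shiftLeft (Nat.xor a b) 1)

/-- multiplication by `ω ^ τ` -/
def mulp (M : ℕ) : ℕ → ℕ → ℕ
  | 0, s => s
  | t + 1, s => force (mulp M t s) (mulw M)

/-- sum of the coordinates `p.2 / 2` moved to the coordinates `p.1 / 2` -/
def mv (s : ℕ) : List (ℕ × ℕ) → ℕ
  | [] => 0
  | p :: l => Nat.xor (Nat.shiftLeft (Nat.land (Nat.shiftRight s p.2) 3) p.1) (mv s l)

/-- letters -/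
structure Ltr where
  r : ℕ
  t : ℕ
  t2 : ℕ
  l1 : List (ℕ × ℕ)
  l2 : List (ℕ × ℕ)

/-- the action of a letter -/
def step (M : ℕ) (a : Ltr) (s : ℕ) : ℕ :=
  Nat.xor s (Nat.xor (mulp M a.t (mv s a.l1)) (mulp M a.t2 (mv s a.l2)))

/-- the action of a word -/
def run (M : ℕ) : List Ltr → ℕ → ℕ
  | [], s => s
  | a :: w, s => force (step M a s) (run M w)

theorem run_append (N : ℕ) (w w' : List Ltr) (s : ℕ) : run N (w ++ w') s = run N w' (run N w s) := by
  induction w generalizing s with
  | nil => rfl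
  | cons a w ih =>
    rw [List.cons_append]
    show force (step N a s) (run N (w ++ w')) = run N w' (force (step N a s) (run N w))
    rw [force_eq, force_eq, ih]

section val

variable {K : Type*} [Field K] (ω : K)

/-- a bit as an element of `K` -/
def bt (K : Type*) [Field K] (b : Bool) : K := if b then 1 else 0

/-- the coordinate `k` of the vector with code `s` -/
def val (s k : ℕ) : K := bt K (s.testBit (2 * k)) + bt K (s.testBit (2 * k + 1)) * ω

theorem bt_false : bt K false = 0 := rfl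
theorem val_zero (k : ℕ) : val ω 0 k = 0 := by
  unfold val
  rw [Nat.zero_testBit, Nat.zero_testBit, bt_false]
  ring

variable [CharP K 2]

theorem bt_xor (a b : Bool) : bt K (a ^^ b) = bt K a + bt K b := by
  have h1 : (1 : K) + 1 = 0 := CharTwo.add_self_eq_zero 1
  cases a <;> cases b <;> simp [bt, h1]

theorem val_xor (a b k : ℕ) : val ω (Nat.xor a b) k = val ω a k + val ω b k := by
  unfold val
  have e : ∀ i, (Nat.xor a b).testBit i = (a.testBit i ^^ b.testBit i) := fun i => Nat.testBit_xor a b i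
  rw [e, e, bt_xor, bt_xor]
  ring

theorem val_move (s u k0 k : ℕ) :
    val ω (Nat.shiftLeft (Nat.land (Nat.shiftRight s (2 * u)) 3) (2 * k0)) k = if k = k0 then val ω s u else 0 := by
  have e : ∀ i, (Nat.shiftLeft (Nat.land (Nat.shiftRight s (2 * u)) 3) (2 * k0)).testBit i =
      (decide (2 * k0 ≤ i) && (s.testBit (2 * u + (i - 2 * k0)) && Nat.testBit 3 (i - 2 * k0))) := by
    intro i
    have e1 : (Nat.shiftLeft (Nat.land (Nat.shiftRight s (2 * u)) 3) (2 * k0)) =
      ((s >>> (2 * u)) &&& 3) <<< (2 * k0) := rfl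
    rw [e1, Nat.testBit_shiftLeft, Nat.testBit_and, Nat.testBit_shiftRight]
  have e3 : ∀ j, Nat.testBit 3 j = decide (j < 2) := by
    intro j
    rcases j with _ | _ | j
    · rfl
    · rfl
    · rw [Nat.testBit_succ, Nat.testBit_succ]
      have : (3 : ℕ) / 2 / 2 = 0 := rfl
      rw [this, Nat.zero_testBit]
      simp
  unfold val
  rw [e, e, e3, e3]
  by_cases hk : k = k0
  · subst hk
    rw [if_pos rfl]
    have h1 : 2 * u + (2 * k - 2 * k) = 2 * u := by omega
    have h2 : 2 * u + (2 * k + 1 - 2 * k) = 2 * u + 1 := by omega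
    rw [h1, h2]
    have h3 : decide (2 * k ≤ 2 * k) = true := by simp
    have h4 : decide (2 * k ≤ 2 * k + 1) = true := by simp
    have h5 : decide (2 * k - 2 * k < 2) = true := by simp
    have h6 : decide (2 * k + 1 - 2 * k < 2) = true := by simp
    rw [h3, h4, h5, h6]
    simp
  · rw [if_neg hk]
    rcases Nat.lt_or_gt_of_ne hk with h | h
    · have h3 : decide (2 * k0 ≤ 2 * k) = false := by simp only [_root_.Order.lt_two_iff, _root_.zero_le, _root_.mul_le_mul_iff_right₀, _root_.decide_eq_false_iff_not, _root_.not_le]; omega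
      have h4 : decide (2 * k0 ≤ 2 * k + 1) = false := by simp; omega
      rw [h3, h4]
      simp only [bt, _root_.Cfsg.Agent.H891.TE6.Eng.bt, _root_.Order.lt_two_iff, _root_.tsub_le_iff_right, _root_.Bool.false_and, _root_.Bool.false_eq_true, ↓ _root_.reduceIte, _root_.Order.add_one_le_iff, _root_.MulZeroClass.zero_mul, _root_.add_zero]
    · have h5 : decide (2 * k - 2 * k0 < 2) = false := by simp only [_root_.Order.lt_two_iff, _root_.tsub_le_iff_right, _root_.decide_eq_false_iff_not, _root_.not_le]; omega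
      have h6 : decide (2 * k + 1 - 2 * k0 < 2) = false := by simp only [_root_.Order.lt_two_iff, _root_.tsub_le_iff_right, _root_.Order.add_one_le_iff, _root_.decide_eq_false_iff_not, _root_.not_lt]; omega
      rw [h5, h6]
      simp only [bt, _root_.Cfsg.Agent.H891.TE6.Eng.bt, _root_.Order.lt_two_iff, _root_.zero_le, _root_.mul_le_mul_iff_right₀, _root_.Bool.and_false, _root_.Bool.false_eq_true, ↓ _root_.reduceIte, _root_.MulZeroClass.zero_mul, _root_.add_zero]

variable {ω} (hω : ω ^ 2 + ω + 1 = 0)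

include hω

theorem val_mulw {N k : ℕ} (hk : k < N) (s : ℕ) : val ω (mulw (msk N) s) k = ω * val ω s k := by
  have e0 : mulw (msk N) s = ((s >>> 1) &&& msk N) ^^^ (((s &&& msk N) ^^^ ((s >>> 1) &&& msk N)) <<< 1) := by
    unfold mulw
    rw [force_eq, force_eq]
    rfl
  have h1 : (mulw (msk N) s).testBit (2 * k) = s.testBit (2 * k + 1) := by
    rw [e0, Nat.testBit_xor, Nat.testBit_and, msk_even, Nat.testBit_shiftRight, Nat.testBit_shiftLeft]
    have h2 : decide (k < N) = true := by simp [hk]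
    rw [h2, Nat.add_comm 1 (2 * k), Bool.and_true]
    have h3 : (decide (2 * k ≥ 1) &&
        (s &&& msk N ^^^ s >>> 1 &&& msk N).testBit (2 * k - 1)) = false := by
      rcases k with _ | k
      · simp
      · have h4 : 2 * (k + 1) - 1 = 2 * k + 1 := by omega
        rw [h4, Nat.testBit_xor, Nat.testBit_and, Nat.testBit_and, msk_odd]
        simp
    rw [h3, Bool.xor_false]
  have h2 : (mulw (msk N) s).testBit (2 * k + 1) = (s.testBit (2 * k) ^^ s.testBit (2 * k + 1)) := by
    rw [e0, Nat.testBit_xor, Nat.testBit_and, msk_odd, Bool.and_false, Bool.false_xor, Nat.testBit_shiftLeft]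
    have h3 : 2 * k + 1 - 1 = 2 * k := by omega
    rw [h3, Nat.testBit_xor, Nat.testBit_and, Nat.testBit_and, msk_even, Nat.testBit_shiftRight]
    have h4 : decide (k < N) = true := by simp [hk]
    rw [h4, Nat.add_comm 1 (2 * k)]
    simp
  unfold val
  rw [h1, h2, bt_xor]
  have h3 : ω ^ 2 = ω + 1 := by
    have h4 : ω ^ 2 + (ω + 1) = 0 := by rw [← add_assoc]; exact hω
    exact CharTwo.add_eq_zero.1 h4
  linear_combination (-(bt K (s.testBit (2 * k + 1)))) * h3

theorem val_mulp {N k : ℕ} (hk : k < N) (t s : ℕ) : val ω (mulp (msk N) t s) k = ω ^ t * val ω s k := by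
  induction t with
  | zero => rw [pow_zero, one_mul]; rfl
  | succ t ih =>
    show val ω (force (mulp (msk N) t s) (mulw (msk N))) k = _
    rw [force_eq, val_mulw hω hk, ih]
    ring

omit hω in
theorem val_mv (s k : ℕ) (l : List (ℕ × ℕ)) :
    val ω (mv s (l.map fun p => (2 * p.1, 2 * p.2))) k = (l.map fun p => if k = p.1 then val ω s p.2 else 0).sum := by
  induction l with
  | nil => exact val_zero ω k
  | cons p l ih =>
    rw [List.map_cons, List.map_cons, List.sum_cons, ← ih, ← val_move ω s p.2 p.1 k, ← val_xor]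
    rfl

omit [CharP K 2] hω in
theorem pow_three (h : ω ^ 2 + ω + 1 = 0) : ω ^ 3 = 1 := by linear_combination (ω - 1) * h

end val

/-! ### letters -/

/-- the entries of the recipe with odd coefficient and exponent `e` -/
def odds (D : ChevalleyDatum) (r e : ℕ) : List (ℕ × ℕ) :=
  ((recipe D r).filter fun a => decide (a.2.2.1 % 2 ≠ 0) && decide (a.2.2.2 = e)).map fun a => (a.1, a.2.1)

/-- the letter `x_r(ω ^ t)` -/
def mkL (D : ChevalleyDatum) (r t : ℕ) : Ltr :=
  ⟨r, t, 2 * t % 3, (odds D r 1).map fun p => (2 * p.1, 2 * p.2), (odds D r 2).map fun p => (2 * p.1, 2 * p.2)⟩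

/-- side conditions -/
def okL (D : ChevalleyDatum) (r : ℕ) : Bool :=
  decide (r < D.nroots) && good D r &&
    (recipe D r).all fun a => decide (a.2.2.1 % 2 = 0) || (decide (a.2.2.2 = 1) || decide (a.2.2.2 = 2))

section act

variable {D : ChevalleyDatum} {K : Type*} [Field K] [CharP K 2] {ω : K}

theorem rsum_odd (v : ℕ → K) (t : K) (k : ℕ) (l : List (ℕ × ℕ × ℤ × ℕ))
    (hl : ∀ a ∈ l, a.2.2.1 % 2 = 0 ∨ a.2.2.2 = 1 ∨ a.2.2.2 = 2) :
    rsum v t l k =
      t * (((l.filter fun a => decide (a.2.2.1 % 2 ≠ 0) && decide (a.2.2.2 = 1)).map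
        fun a => if k = a.1 then v a.2.1 else 0).sum) +
      t ^ 2 * (((l.filter fun a => decide (a.2.2.1 % 2 ≠ 0) && decide (a.2.2.2 = 2)).map
        fun a => if k = a.1 then v a.2.1 else 0).sum) := by
  induction l with
  | nil => simp only [rsum, _root_.Cfsg.Agent.Th.E8Recipe.rsum, _root_.List.map_nil, _root_.List.sum_nil, _root_.ne_eq, _root_.EuclideanDomain.mod_eq_zero, _root_.Int.two_dvd_ne_zero, _root_.List.filter_nil, _root_.MulZeroClass.mul_zero, _root_.add_zero]
  | cons a l ih =>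
    rw [rsum_cons, ih fun b hb => hl b (List.mem_cons_of_mem _ hb)]
    have hc : ((a.2.2.1 : ℤ) : K) = if a.2.2.1 % 2 = 0 then 0 else 1 := by
      have h2 : ((2 : ℤ) : K) = 0 := by
        have := CharP.cast_eq_zero K 2
        exact_mod_cast this
      have h3 := Int.emod_add_mul_ediv a.2.2.1 2
      have h4 : ((a.2.2.1 : ℤ) : K) = ((a.2.2.1 % 2 : ℤ) : K) := by
        conv_lhs => rw [← h3]
        rw [Int.cast_add, Int.cast_mul, h2, zero_mul, add_zero]
      rw [h4]
      rcases Int.emod_two_eq_zero_or_one a.2.2.1 with h5 | h5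
      · rw [h5]; simp
      · rw [h5]; simp
    by_cases h0 : a.2.2.1 % 2 = 0
    · rw [List.filter_cons_of_neg (by simp [h0]), List.filter_cons_of_neg (by simp [h0]), hc, if_pos h0]
      simp only [_root_.MulZeroClass.zero_mul, _root_.ite_self, _root_.ne_eq, _root_.EuclideanDomain.mod_eq_zero, _root_.Int.two_dvd_ne_zero, _root_.zero_add]
    · rcases hl a List.mem_cons_self with h1 | h1 | h1
      · exact absurd h1 h0
      · rw [List.filter_cons_of_pos (by simp [h0, h1]), List.filter_cons_of_neg (by simp [h1]), hc, if_neg h0,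
          List.map_cons, List.sum_cons, h1]
        by_cases hk : k = a.1
        · rw [if_pos hk, if_pos hk]; ring
        · rw [if_neg hk, if_neg hk]; ring
      · rw [List.filter_cons_of_neg (by simp [h1]), List.filter_cons_of_pos (by simp [h0, h1]), hc, if_neg h0,
          List.map_cons, List.sum_cons, h1]
        by_cases hk : k = a.1
        · rw [if_pos hk, if_pos hk]; ring
        · rw [if_neg hk, if_neg hk]; ring

theorem val_step (hω : ω ^ 2 + ω + 1 = 0) {r : ℕ} (hr : okL D r = true) (t s : ℕ) {k : ℕ}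
    (hk : k < D.rank + D.nroots) : val ω (step (msk (D.rank + D.nroots)) (mkL D r t) s) k =
      val ω s k + rsum (val ω s) (ω ^ t) (recipe D r) k := by
  unfold okL at hr
  rw [Bool.and_eq_true, List.all_eq_true] at hr
  have hl : ∀ a ∈ recipe D r, a.2.2.1 % 2 = 0 ∨ a.2.2.2 = 1 ∨ a.2.2.2 = 2 := by
    intro a ha
    have := hr.2 a ha
    simpa only [_root_.EuclideanDomain.mod_eq_zero, _root_.Bool.or_eq_true, _root_.decide_eq_true_eq] using this
  rw [rsum_odd _ _ _ _ hl]
  unfold step
  rw [val_xor, val_xor, val_mulp hω hk, val_mulp hω hk]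
  have e1 : (mkL D r t).l1 = (odds D r 1).map fun p => (2 * p.1, 2 * p.2) := rfl
  have e2 : (mkL D r t).l2 = (odds D r 2).map fun p => (2 * p.1, 2 * p.2) := rfl
  rw [e1, e2, val_mv, val_mv]
  have e3 : ω ^ (mkL D r t).t2 = (ω ^ t) ^ 2 := by
    show ω ^ (2 * t % 3) = _
    rw [← pow_mul, mul_comm t 2]
    conv_rhs => rw [← Nat.mod_add_div (2 * t) 3, pow_add, pow_mul, pow_three hω, one_pow, mul_one]
  rw [e3]
  unfold odds
  rw [List.map_map, List.map_map]
  rfl

variable (hD : InList D) (ω)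

/-- the product of a word of (root, exponent) -/
def wdG (w : List (ℕ × ℕ)) : GL D.Idx K := (w.map fun p => xG hD p.1 (ω ^ p.2)).prod

omit [CharP K 2] in
theorem wdG_append (w w' : List (ℕ × ℕ)) : wdG ω hD (w ++ w') = wdG ω hD w * wdG ω hD w' := by
  unfold wdG; rw [List.map_append, List.prod_append]

omit [CharP K 2] in
theorem wdG_cons (a : ℕ × ℕ) (w : List (ℕ × ℕ)) : wdG ω hD (a :: w) = xG hD a.1 (ω ^ a.2) * wdG ω hD w := by
  unfold wdG; rw [List.map_cons, List.prod_cons]

/-- the letters of a word -/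
def ltrs (D : ChevalleyDatum) (w : List (ℕ × ℕ)) : List Ltr := w.map fun p => mkL D p.1 p.2

variable {ω} (hω : ω ^ 2 + ω + 1 = 0)

include hω

theorem vecMul_wdG : ∀ (w : List (ℕ × ℕ)) (_ : ∀ p ∈ w, okL D p.1 = true) (s : ℕ),
    (fun a : D.Idx => val ω s (code D a)) ᵥ* ((wdG ω hD w : GL D.Idx K) : Matrix D.Idx D.Idx K) =
      fun a : D.Idx => val ω (run (msk (D.rank + D.nroots)) (ltrs D w) s) (code D a) := by
  intro w
  induction w with
  | nil =>
    intro _ s
    have h : ((wdG ω hD [] : GL D.Idx K) : Matrix D.Idx D.Idx K) = 1 := rfl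
    rw [h, Matrix.vecMul_one]
    rfl
  | cons p w ih =>
    intro h s
    have hp := h p List.mem_cons_self
    have hp' := hp
    unfold okL at hp'
    rw [Bool.and_eq_true, Bool.and_eq_true, decide_eq_true_iff] at hp'
    obtain ⟨⟨hr, hg⟩, -⟩ := hp'
    have hx : D.x K p.1 (ω ^ p.2) = D.xMat K ⟨p.1, hr⟩ (ω ^ p.2) := dif_pos hr
    have h1 : (fun a : D.Idx => val ω s (code D a)) ᵥ* D.x K p.1 (ω ^ p.2) =
        fun a : D.Idx => val ω (step (msk (D.rank + D.nroots)) (mkL D p.1 p.2) s) (code D a) := by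
      rw [hx]
      funext a
      have h2 := sum_mul_xMat (D := D) (F := K) (val ω s) (ω ^ p.2) ⟨p.1, hr⟩ hg a
      rw [val_step hω hp p.2 s (code_lt a), ← h2]
      rfl
    rw [wdG_cons, Units.val_mul, ← Matrix.vecMul_vecMul, coe_xG, h1, ih fun q hq => h q (List.mem_cons_of_mem _ hq)]
    have h3 : ltrs D (p :: w) = mkL D p.1 p.2 :: ltrs D w := rfl
    rw [h3]
    have h4 : ∀ (a : Ltr) (l : List Ltr), run (msk (D.rank + D.nroots)) (a :: l) s =
        run (msk (D.rank + D.nroots)) l (step (msk (D.rank + D.nroots)) a s) := fun a l => by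
      show force _ _ = _
      rw [force_eq]
    rw [h4]

end act

end Cfsg.Agent.H891.TE6.Eng
end

-- part: H891/TE6/Chk
section
/-!
# Words in root elements over the field with four elements: checks (helper891)

* `eq_of_chk` : equality of two elements from the images of the basis vectors;
* `dvd_orderOf` : `p ∣ orderOf g` from a vector with `ξ g ^ p = ξ ≠ ξ g`.
-/

set_option autoImplicit false
set_option linter.unusedSectionVars false

namespace Cfsg.Agent.H891.TE6.Eng

open Cfsg Cfsg.Lie Cfsg.Agent.Th.E8Recipe Cfsg.Agent.ChevalleyStructure.Elts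
open scoped Matrix

deriving instance DecidableEq for Ltr

variable {D : ChevalleyDatum} {K : Type*} [Field K] [CharP K 2] {ω : K}

theorem bt_ne_omega (hω : ω ^ 2 + ω + 1 = 0) {b0 b1 c0 c1 : Bool}
    (h : bt K b0 + bt K b1 * ω = bt K c0 + bt K c1 * ω) : b0 = c0 ∧ b1 = c1 := by
  have h1 : (1 : K) ≠ 0 := one_ne_zero
  have h2 : (1 : K) + 1 = 0 := CharTwo.add_self_eq_zero 1
  have n0 : ω ≠ 0 := by
    rintro rfl
    apply h1
    linear_combination hω
  have n1 : ω ≠ 1 := by
    rintro rfl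
    apply h1
    linear_combination hω - h2
  cases b0 <;> cases b1 <;> cases c0 <;> cases c1 <;> simp [bt] at h ⊢
  all_goals first
    | exact absurd h n0
    | exact absurd h.symm n0
    | exact absurd h n1
    | exact absurd h.symm n1
    | (apply n1; linear_combination h - h2)
    | (apply n1; linear_combination (-1 : K) * h - h2)

/-- the codes differ in the coordinate `k` -/
def neqAt (s s' k : ℕ) : Bool :=
  (s.testBit (2 * k) != s'.testBit (2 * k)) || (s.testBit (2 * k + 1) != s'.testBit (2 * k + 1))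

theorem val_ne (hω : ω ^ 2 + ω + 1 = 0) {s s' k : ℕ} (h : neqAt s s' k = true) : val ω s k ≠ val ω s' k := by
  intro h1
  obtain ⟨h2, h3⟩ := bt_ne_omega hω h1
  unfold neqAt at h
  rw [h2, h3] at h
  simp at h

omit [CharP K 2] in
theorem val_basis (k j : ℕ) : val ω (Nat.shiftLeft 1 (2 * k)) j = if j = k then 1 else 0 := by
  have e : ∀ i, (Nat.shiftLeft 1 (2 * k)).testBit i = decide (i = 2 * k) := by
    intro i
    have : Nat.shiftLeft 1 (2 * k) = 2 ^ (2 * k) := by
      have := Nat.one_shiftLeft (2 * k)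
      exact this
    rw [this, Nat.testBit_two_pow]
    simp [eq_comm]
  unfold val
  rw [e, e]
  have h1 : decide (2 * j + 1 = 2 * k) = false := by simp; omega
  rw [h1, bt_false, zero_mul, add_zero]
  by_cases h : j = k
  · subst h
    simp [bt]
  · have h2 : decide (2 * j = 2 * k) = false := by simp; omega
    rw [h2, bt_false, if_neg h]

/-- the check of equality -/
def chkEq (D : ChevalleyDatum) (f f' : ℕ → ℕ) : Bool :=
  (List.range (D.rank + D.nroots)).all fun k => Nat.beq (f (Nat.shiftLeft 1 (2 * k))) (f' (Nat.shiftLeft 1 (2 * k)))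

/-- `f` is the action of the word `w` -/
def Acts (D : ChevalleyDatum) (w : List (ℕ × ℕ)) (f : ℕ → ℕ) : Prop :=
  (∀ p ∈ w, okL D p.1 = true) ∧ ∀ s, f s = run (msk (D.rank + D.nroots)) (ltrs D w) s

theorem Acts.append {w w' : List (ℕ × ℕ)} {f f' : ℕ → ℕ} (h : Acts D w f) (h' : Acts D w' f') :
    Acts D (w ++ w') (fun s => force (f s) f') := by
  refine ⟨fun p hp => ?_, fun s => ?_⟩
  · rcases List.mem_append.1 hp with h1 | h1
    · exact h.1 p h1
    · exact h'.1 p h1
  · have h2 : ltrs D (w ++ w') = ltrs D w ++ ltrs D w' := by unfold ltrs; rw [List.map_append]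
    show force (f s) f' = _
    rw [force_eq, h'.2, h.2, h2, run_append]

theorem Acts.nil : Acts D [] (fun s => s) := ⟨fun _ h => absurd h List.not_mem_nil, fun _ => rfl⟩

/-- iteration with evaluation -/
def itf (f : ℕ → ℕ) : ℕ → ℕ → ℕ
  | 0, s => s
  | n + 1, s => force (f s) (itf f n)

theorem Acts.iter {w : List (ℕ × ℕ)} {f : ℕ → ℕ} (h : Acts D w f) (n : ℕ) :
    Acts D (List.replicate n w).flatten (itf f n) := by
  induction n with
  | zero => exact Acts.nil
  | succ n ih =>
    rw [List.replicate_succ, List.flatten_cons]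
    exact h.append ih

theorem Acts.of_ltrs {w : List (ℕ × ℕ)} {l : List Ltr} {M : ℕ} (hM : msk (D.rank + D.nroots) = M)
    (hok : (w.all fun p => okL D p.1) = true) (h : ltrs D w = l) : Acts D w (run M l) :=
  ⟨fun p hp => List.all_eq_true.1 hok p hp, fun s => by rw [h, hM]⟩

variable (hD : InList D)

omit [CharP K 2] in
theorem wdG_flatten (w : List (ℕ × ℕ)) (n : ℕ) : wdG ω hD (List.replicate n w).flatten = wdG ω hD w ^ n := by
  induction n with
  | zero => rfl
  | succ n ih => rw [List.replicate_succ, List.flatten_cons, wdG_append, ih, pow_succ']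

theorem vecMul_acts (hω : ω ^ 2 + ω + 1 = 0) {w : List (ℕ × ℕ)} {f : ℕ → ℕ} (h : Acts D w f) (s : ℕ) :
    (fun a : D.Idx => val ω s (code D a)) ᵥ* ((wdG ω hD w : GL D.Idx K) : Matrix D.Idx D.Idx K) =
      fun a : D.Idx => val ω (f s) (code D a) := by
  rw [vecMul_wdG hD hω w h.1 s, h.2]

/-- **equality of two elements** -/
theorem eq_of_chk (hω : ω ^ 2 + ω + 1 = 0) {w w' : List (ℕ × ℕ)} {f f' : ℕ → ℕ} (h : Acts D w f)
    (h' : Acts D w' f') (hc : chkEq D f f' = true) : wdG ω hD w = wdG ω hD w' := by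
  apply Units.ext
  ext a b
  have hb : (fun b : D.Idx => val ω (Nat.shiftLeft 1 (2 * code D a)) (code D b)) = Pi.single a (1 : K) := by
    funext b
    rw [val_basis, Pi.single_apply]
    by_cases hab : b = a
    · rw [if_pos hab, if_pos (by rw [hab])]
    · rw [if_neg hab, if_neg fun h => hab (code_injective h)]
  have h1 := vecMul_acts hD hω h (Nat.shiftLeft 1 (2 * code D a))
  have h2 := vecMul_acts hD hω h' (Nat.shiftLeft 1 (2 * code D a))
  rw [hb, Matrix.single_one_vecMul] at h1 h2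
  have h3 : f (Nat.shiftLeft 1 (2 * code D a)) = f' (Nat.shiftLeft 1 (2 * code D a)) := by
    unfold chkEq at hc
    rw [List.all_eq_true] at hc
    exact Nat.eq_of_beq_eq_true (hc (code D a) (List.mem_range.2 (code_lt a)))
  rw [h3, ← h2] at h1
  exact congrFun h1 b

/-- the check of the order -/
def chkOrd (D : ChevalleyDatum) (f : ℕ → ℕ) (p : ℕ) : Bool :=
  force (f 1) fun s => ((List.range (D.rank + D.nroots)).any fun k => neqAt s 1 k) && Nat.beq (itf f (p - 1) s) 1

omit [CharP K 2] in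
theorem dvd_of_vec {A : GL D.Idx K} {ξ : D.Idx → K} {p m : ℕ} (hp : p.Prime) (hm : A ^ m = 1)
    (h1 : ξ ᵥ* ((A ^ p : GL D.Idx K) : Matrix D.Idx D.Idx K) = ξ)
    (h2 : ξ ᵥ* (A : Matrix D.Idx D.Idx K) ≠ ξ) : p ∣ m := by
  by_contra hpm
  have hco : Nat.Coprime p m := (Nat.Prime.coprime_iff_not_dvd hp).2 hpm
  have key : ∀ n : ℕ, ξ ᵥ* (((A ^ p) ^ n : GL D.Idx K) : Matrix D.Idx D.Idx K) = ξ := by
    intro n
    induction n with
    | zero => rw [pow_zero, Units.val_one, Matrix.vecMul_one]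
    | succ n ih => rw [pow_succ, Units.val_mul, ← Matrix.vecMul_vecMul, ih, h1]
  apply h2
  rcases Nat.eq_zero_or_pos m with h0 | h0
  · subst h0
    rw [Nat.coprime_zero_right] at hco
    rw [hco, pow_one] at h1
    exact h1
  rcases Nat.lt_or_ge 1 m with h3 | h3
  · obtain ⟨n, hn⟩ := Nat.exists_mul_mod_eq_one_of_coprime hco h3
    have h4 : (A ^ p) ^ n = A := by
      rw [← pow_mul, ← Nat.mod_add_div (p * n) m, pow_add, pow_mul, hm, one_pow, mul_one]
      have : p * n % m = 1 := hn.2
      rw [this, pow_one]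
    have := key n
    rwa [h4] at this
  · have h5 : m = 1 := by omega
    rw [h5, pow_one] at hm
    rw [hm, Units.val_one, Matrix.vecMul_one]

/-- **divisibility of the order** -/
theorem dvd_of_chk (hω : ω ^ 2 + ω + 1 = 0) {w : List (ℕ × ℕ)} {f : ℕ → ℕ} (h : Acts D w f) {p m : ℕ}
    (hp : p.Prime) (hc : chkOrd D f p = true) (hm : wdG ω hD w ^ m = 1) : p ∣ m := by
  unfold chkOrd at hc
  rw [force_eq, Bool.and_eq_true, List.any_eq_true] at hc
  obtain ⟨⟨k, hk, hne⟩, hit⟩ := hc
  have hit' := Nat.eq_of_beq_eq_true hit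
  have hfp : itf f p 1 = 1 := by
    obtain ⟨q, rfl⟩ : ∃ q, p = q + 1 := ⟨p - 1, by have := hp.pos; omega⟩
    rw [Nat.add_sub_cancel] at hit'
    show force (f 1) (itf f q) = 1
    rw [force_eq]
    exact hit'
  refine dvd_of_vec (D := D) (ξ := fun a : D.Idx => val ω 1 (code D a)) hp hm ?_ ?_
  · rw [← wdG_flatten, vecMul_acts hD hω (h.iter p) 1, hfp]
  · rw [vecMul_acts hD hω h 1]
    intro h1
    obtain ⟨a, ha⟩ := exists_code (D := D) (List.mem_range.1 hk)
    have h2 := congrFun h1 a
    rw [ha] at h2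
    exact val_ne hω hne h2

end Cfsg.Agent.H891.TE6.Eng
end

-- part: H891/TE6/Data
section
/-!
# `²E₆(2)`: the letters (generated; helper891)
-/

set_option autoImplicit false

namespace Cfsg.Agent.H891.TE6.Eng

open Cfsg Cfsg.Lie

/-- `0101…01`, 78 fields -/
def M78 : ℕ := 30447950777727144129243434014922562909498594645

theorem msk78 : msk (chevE6.rank + chevE6.nroots) = M78 := by decide +kernel

def l46 : Ltr := ⟨46, 0, 0,
  [(6, 104), (62, 2), (12, 14), (28, 34), (30, 36), (32, 38), (50, 64), (52, 66), (54, 68), (56, 72), (58, 74), (60,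
  76), (90, 106), (92, 108), (94, 110), (98, 112), (100, 114), (102, 116), (128, 134), (130, 136), (132, 138), (152,
  154)],
  [(62, 104)]⟩
theorem l46_eq : mkL chevE6 46 0 = l46 := by decide +kernel

def l39 : Ltr := ⟨39, 0, 0,
  [(2, 90), (4, 90), (8, 90), (76, 6), (14, 16), (24, 28), (26, 30), (38, 40), (46, 50), (48, 52), (60, 62), (68,
  70), (72, 78), (74, 80), (86, 92), (88, 94), (96, 98), (104, 106), (114, 118), (116, 120), (126, 128), (136, 140),
  (138, 142), (150, 152)],
  [(76, 90)]⟩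
theorem l39_eq : mkL chevE6 39 0 = l39 := by decide +kernel

def l42 : Ltr := ⟨42, 0, 0,
  [(0, 96), (6, 96), (70, 4), (16, 22), (18, 24), (20, 26), (40, 42), (50, 56), (52, 58), (54, 60), (64, 72), (66,
  74), (68, 76), (90, 98), (92, 100), (94, 102), (106, 112), (108, 114), (110, 116), (124, 126), (140, 146), (142,
  148), (144, 150)],
  [(70, 96)]⟩
theorem l42_eq : mkL chevE6 42 0 = l42 := by decide +kernel

def l37 : Ltr := ⟨37, 0, 0,
  [(6, 86), (10, 86), (80, 8), (16, 18), (22, 24), (30, 32), (36, 38), (44, 46), (52, 54), (58, 60), (66, 68), (74,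
  76), (78, 82), (84, 88), (90, 92), (98, 100), (106, 108), (112, 114), (120, 122), (128, 130), (134, 136), (142,
  144), (148, 150)],
  [(80, 86)]⟩
theorem l37_eq : mkL chevE6 37 0 = l37 := by decide +kernel

def l56 : Ltr := ⟨56, 0, 0,
  [(4, 124), (42, 0), (22, 44), (24, 46), (26, 48), (28, 50), (30, 52), (32, 54), (34, 64), (36, 66), (38, 68), (40,
  70), (96, 126), (98, 128), (100, 130), (102, 132), (112, 134), (114, 136), (116, 138), (118, 140), (120, 142),
  (122, 144)],
  [(42, 124)]⟩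
theorem l56_eq : mkL chevE6 56 0 = l56 := by decide +kernel

def l36 : Ltr := ⟨36, 0, 0,
  [(8, 84), (82, 10), (18, 20), (24, 26), (28, 30), (34, 36), (46, 48), (50, 52), (56, 58), (64, 66), (72, 74), (78,
  80), (86, 88), (92, 94), (100, 102), (108, 110), (114, 116), (118, 120), (130, 132), (136, 138), (140, 142), (146,
  148)],
  [(82, 84)]⟩
theorem l36_eq : mkL chevE6 36 0 = l36 := by decide +kernel

def l38w1 : Ltr := ⟨38, 1, 2,
  [(6, 88), (8, 88), (10, 88), (78, 8), (78, 10), (16, 20), (22, 26), (28, 32), (34, 38), (44, 48), (50, 54), (56,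
  60), (64, 68), (72, 76), (80, 84), (82, 86), (90, 94), (98, 102), (106, 110), (112, 116), (118, 122), (128, 132),
  (134, 138), (140, 144), (146, 150)],
  [(78, 88)]⟩
theorem l38w1_eq : mkL chevE6 38 1 = l38w1 := by decide +kernel

def l57w2 : Ltr := ⟨57, 2, 1,
  [(0, 126), (4, 126), (6, 126), (40, 0), (40, 4), (16, 44), (18, 46), (20, 48), (28, 56), (30, 58), (32, 60), (34,
  72), (36, 74), (38, 76), (42, 96), (70, 124), (90, 128), (92, 130), (94, 132), (106, 134), (108, 136), (110, 138),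
  (118, 146), (120, 148), (122, 150)],
  [(40, 126)]⟩
theorem l57w2_eq : mkL chevE6 57 2 = l57w2 := by decide +kernel

def l47 : Ltr := ⟨47, 0, 0,
  [(2, 106), (4, 106), (6, 106), (8, 106), (60, 2), (60, 6), (12, 16), (24, 34), (26, 36), (32, 40), (46, 64), (48,
  66), (54, 70), (56, 78), (58, 80), (62, 90), (76, 104), (86, 108), (88, 110), (96, 112), (100, 118), (102, 120),
  (126, 134), (130, 140), (132, 142), (150, 154)],
  [(60, 106)]⟩
theorem l47_eq : mkL chevE6 47 0 = l47 := by decide +kernel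

def l43w1 : Ltr := ⟨43, 1, 2,
  [(0, 98), (2, 98), (4, 98), (6, 98), (8, 98), (68, 4), (68, 6), (14, 22), (18, 28), (20, 30), (38, 42), (46, 56),
  (48, 58), (54, 62), (64, 78), (66, 80), (70, 90), (76, 96), (86, 100), (88, 102), (104, 112), (108, 118), (110,
  120), (124, 128), (136, 146), (138, 148), (144, 152)],
  [(68, 98)]⟩
theorem l43w1_eq : mkL chevE6 43 1 = l43w1 := by decide +kernel

def l40w2 : Ltr := ⟨40, 2, 1,
  [(2, 92), (4, 92), (6, 92), (8, 92), (10, 92), (74, 6), (74, 8), (14, 18), (22, 28), (26, 32), (36, 40), (44, 50),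
  (48, 54), (58, 62), (66, 70), (72, 82), (76, 86), (80, 90), (84, 94), (96, 100), (104, 108), (112, 118), (116,
  122), (126, 130), (134, 140), (138, 144), (148, 152)],
  [(74, 92)]⟩
theorem l40w2_eq : mkL chevE6 40 2 = l40w2 := by decide +kernel

def l5 : Ltr := ⟨5, 0, 0,
  [(0, 22), (4, 22), (8, 22), (144, 0), (144, 2), (144, 4), (144, 10), (54, 12), (68, 14), (70, 16), (86, 24), (88,
  26), (92, 28), (94, 30), (108, 34), (110, 36), (122, 42), (124, 44), (130, 56), (132, 58), (136, 72), (138, 74),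
  (140, 78), (142, 80), (150, 96), (152, 98), (154, 112)],
  [(144, 22)]⟩
theorem l5_eq : mkL chevE6 5 0 = l5 := by decide +kernel

def l5w1 : Ltr := ⟨5, 1, 2,
  [(0, 22), (4, 22), (8, 22), (144, 0), (144, 2), (144, 4), (144, 10), (54, 12), (68, 14), (70, 16), (86, 24), (88,
  26), (92, 28), (94, 30), (108, 34), (110, 36), (122, 42), (124, 44), (130, 56), (132, 58), (136, 72), (138, 74),
  (140, 78), (142, 80), (150, 96), (152, 98), (154, 112)],
  [(144, 22)]⟩
theorem l5w1_eq : mkL chevE6 5 1 = l5w1 := by decide +kernel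

def l5w2 : Ltr := ⟨5, 2, 1,
  [(0, 22), (4, 22), (8, 22), (144, 0), (144, 2), (144, 4), (144, 10), (54, 12), (68, 14), (70, 16), (86, 24), (88,
  26), (92, 28), (94, 30), (108, 34), (110, 36), (122, 42), (124, 44), (130, 56), (132, 58), (136, 72), (138, 74),
  (140, 78), (142, 80), (150, 96), (152, 98), (154, 112)],
  [(144, 22)]⟩
theorem l5w2_eq : mkL chevE6 5 2 = l5w2 := by decide +kernel

def l3 : Ltr := ⟨3, 0, 0,
  [(4, 18), (8, 18), (10, 18), (148, 0), (148, 2), (148, 8), (148, 10), (58, 12), (74, 14), (80, 16), (84, 20), (96,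
  24), (98, 28), (102, 32), (112, 34), (116, 38), (120, 40), (126, 46), (128, 50), (132, 54), (134, 64), (138, 68),
  (142, 70), (146, 82), (150, 86), (152, 92), (154, 108)],
  [(148, 18)]⟩
theorem l3_eq : mkL chevE6 3 0 = l3 := by decide +kernel

def l3w1 : Ltr := ⟨3, 1, 2,
  [(4, 18), (8, 18), (10, 18), (148, 0), (148, 2), (148, 8), (148, 10), (58, 12), (74, 14), (80, 16), (84, 20), (96,
  24), (98, 28), (102, 32), (112, 34), (116, 38), (120, 40), (126, 46), (128, 50), (132, 54), (134, 64), (138, 68),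
  (142, 70), (146, 82), (150, 86), (152, 92), (154, 108)],
  [(148, 18)]⟩
theorem l3w1_eq : mkL chevE6 3 1 = l3w1 := by decide +kernel

def l3w2 : Ltr := ⟨3, 2, 1,
  [(4, 18), (8, 18), (10, 18), (148, 0), (148, 2), (148, 8), (148, 10), (58, 12), (74, 14), (80, 16), (84, 20), (96,
  24), (98, 28), (102, 32), (112, 34), (116, 38), (120, 40), (126, 46), (128, 50), (132, 54), (134, 64), (138, 68),
  (142, 70), (146, 82), (150, 86), (152, 92), (154, 108)],
  [(148, 18)]⟩
theorem l3w2_eq : mkL chevE6 3 2 = l3w2 := by decide +kernel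

def l11 : Ltr := ⟨11, 0, 0,
  [(0, 34), (2, 34), (10, 34), (132, 0), (132, 4), (132, 6), (132, 8), (132, 10), (48, 14), (52, 16), (54, 18), (58,
  22), (60, 24), (62, 28), (84, 36), (88, 38), (94, 40), (102, 42), (124, 64), (126, 72), (128, 78), (130, 82),
  (138, 104), (142, 106), (144, 108), (148, 112), (150, 114), (152, 118)],
  [(132, 34)]⟩
theorem l11_eq : mkL chevE6 11 0 = l11 := by decide +kernel

def l8 : Ltr := ⟨8, 0, 0,
  [(0, 28), (2, 28), (6, 28), (10, 28), (138, 0), (138, 2), (138, 4), (138, 6), (138, 8), (138, 10), (48, 12), (66,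
  16), (68, 18), (74, 22), (76, 24), (84, 30), (88, 32), (104, 34), (110, 40), (116, 42), (124, 50), (126, 56),
  (132, 62), (134, 78), (136, 82), (142, 90), (144, 92), (148, 98), (150, 100), (154, 118)],
  [(138, 28)]⟩
theorem l8_eq : mkL chevE6 8 0 = l8 := by decide +kernel

def l6 : Ltr := ⟨6, 0, 0,
  [(0, 24), (4, 24), (6, 24), (8, 24), (10, 24), (142, 0), (142, 2), (142, 4), (142, 8), (142, 10), (52, 12), (66,
  14), (70, 18), (80, 22), (84, 26), (90, 28), (94, 32), (106, 34), (110, 38), (120, 42), (124, 46), (128, 56),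
  (132, 60), (134, 72), (138, 76), (140, 82), (144, 86), (148, 96), (152, 100), (154, 114)],
  [(142, 24)]⟩
theorem l6_eq : mkL chevE6 6 0 = l6 := by decide +kernel

def l0 : Ltr := ⟨0, 0, 0,
  [(2, 12), (154, 0), (154, 6), (154, 10), (104, 14), (106, 16), (108, 18), (110, 20), (112, 22), (114, 24), (116,
  26), (118, 28), (120, 30), (122, 32), (134, 44), (136, 46), (138, 48), (140, 50), (142, 52), (144, 54), (146, 56),
  (148, 58), (150, 60), (152, 62)],
  [(154, 12)]⟩
theorem l0_eq : mkL chevE6 0 0 = l0 := by decide +kernel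

def l1 : Ltr := ⟨1, 0, 0,
  [(2, 14), (6, 14), (152, 0), (152, 2), (152, 6), (152, 10), (62, 12), (90, 16), (92, 18), (94, 20), (98, 22),
  (100, 24), (102, 26), (118, 34), (120, 36), (122, 38), (128, 44), (130, 46), (132, 48), (140, 64), (142, 66),
  (144, 68), (146, 72), (148, 74), (150, 76), (154, 104)],
  [(152, 14)]⟩
theorem l1_eq : mkL chevE6 1 0 = l1 := by decide +kernel

def l68 : Ltr := ⟨68, 0, 0,
  [(4, 148), (8, 148), (10, 148), (18, 0), (18, 2), (18, 8), (18, 10), (12, 58), (14, 74), (16, 80), (20, 84), (24,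
  96), (28, 98), (32, 102), (34, 112), (38, 116), (40, 120), (46, 126), (50, 128), (54, 132), (64, 134), (68, 138),
  (70, 142), (82, 146), (86, 150), (92, 152), (108, 154)],
  [(18, 148)]⟩
theorem l68_eq : mkL chevE6 68 0 = l68 := by decide +kernel

def l66 : Ltr := ⟨66, 0, 0,
  [(0, 144), (4, 144), (8, 144), (22, 0), (22, 2), (22, 4), (22, 10), (12, 54), (14, 68), (16, 70), (24, 86), (26,
  88), (28, 92), (30, 94), (34, 108), (36, 110), (42, 122), (44, 124), (56, 130), (58, 132), (72, 136), (74, 138),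
  (78, 140), (80, 142), (96, 150), (98, 152), (112, 154)],
  [(22, 144)]⟩
theorem l66_eq : mkL chevE6 66 0 = l66 := by decide +kernel

def l71 : Ltr := ⟨71, 0, 0,
  [(2, 154), (12, 0), (12, 6), (12, 10), (14, 104), (16, 106), (18, 108), (20, 110), (22, 112), (24, 114), (26,
  116), (28, 118), (30, 120), (32, 122), (44, 134), (46, 136), (48, 138), (50, 140), (52, 142), (54, 144), (56,
  146), (58, 148), (60, 150), (62, 152)],
  [(12, 154)]⟩
theorem l71_eq : mkL chevE6 71 0 = l71 := by decide +kernel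

end Cfsg.Agent.H891.TE6.Eng
end

-- part: H891/TE6/Elt
section
/-!
# Elements of the root groups of `²E₆(2)` (helper891)

* `mem_long`, `mem_short` : the root elements lie in the relative root groups;
* `long_cases`, `short_cases` : the elements of a relative root group.
-/

set_option autoImplicit false
set_option linter.unusedSectionVars false

namespace Cfsg.Agent.H891.TE6

open CoxeterSystem Cfsg.Agent.ChevalleyStructure.CoxeterGeom Cfsg.Agent.Tits.Roots Cfsg.Agent.Tits.Core
  Cfsg.Agent.Nodes.BNOf Cfsg.Agent.Nodes.RGDTwGen Cfsg.Agent.Nodes.RGDChev Cfsg.Agent.Nodes.RGDFold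
open Cfsg.Lie Cfsg.Agent.ChevalleyStructure Cfsg.Agent.ChevalleyStructure.Elts
  Cfsg.Agent.ChevalleyStructure.TwistedU Cfsg.Agent.ChevalleyStructure.TwistedFix
open Cfsg.Agent.ChevalleyStructure.TwE6Basic (sg fix rho sg_x hE6)
open Cfsg.Agent.ChevalleyStructure.GraphSymm
open scoped commutatorElement
open Cfsg.Agent.Nodes.RGDTwE6 Cfsg.Agent.KFacts.TwESix.Comb Cfsg.Agent.H891.TE6.Eng

universe u

variable {K : Type u} [Field K]

/-! ### the field with four elements -/

theorem exists_omega [Fintype K] [CharP K 2] (hK : Fintype.card K = 2 ^ 2) : ∃ ω : K, ω ^ 2 + ω + 1 = 0 := by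
  classical
  have h1 : ∃ ω : K, ω ≠ 0 ∧ ω ≠ 1 := by
    by_contra hcon
    push Not at hcon
    have h2 : (Finset.univ : Finset K) ⊆ {0, 1} := by
      intro x _
      rw [Finset.mem_insert, Finset.mem_singleton]
      by_cases hx : x = 0
      · exact Or.inl hx
      · exact Or.inr (hcon x hx)
    have h3 := Finset.card_le_card h2
    rw [Finset.card_univ, hK] at h3
    have h4 : ({0, 1} : Finset K).card ≤ 2 := Finset.card_le_two
    omega
  obtain ⟨ω, h0, h2⟩ := h1
  refine ⟨ω, ?_⟩
  have h3 : ω ^ 4 = ω := by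
    have := FiniteField.pow_card ω
    rwa [hK] at this
  have h4 : ω * (ω - 1) * (ω ^ 2 + ω + 1) = 0 := by linear_combination h3
  rcases mul_eq_zero.1 h4 with h5 | h5
  · rcases mul_eq_zero.1 h5 with h6 | h6
    · exact absurd h6 h0
    · exact absurd (sub_eq_zero.1 h6) h2
  · exact h5

theorem elts [Fintype K] [CharP K 2] (hK : Fintype.card K = 2 ^ 2) {ω : K} (hω : ω ^ 2 + ω + 1 = 0) (t : K)
    (ht : t ≠ 0) : ∃ i < 3, t = ω ^ i := by
  have h3 : t ^ 4 = t := by
    have := FiniteField.pow_card t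
    rwa [hK] at this
  have h4 : ω ^ 3 = 1 := pow_three hω
  have h5 : t * ((t - 1) * ((t - ω) * (t - ω ^ 2))) = 0 := by
    linear_combination h3 - t ^ 3 * hω + ω * t ^ 2 * hω - t * h4
  rcases mul_eq_zero.1 h5 with h6 | h6
  · exact absurd h6 ht
  rcases mul_eq_zero.1 h6 with h7 | h7
  · exact ⟨0, by norm_num, by rw [pow_zero]; exact sub_eq_zero.1 h7⟩
  rcases mul_eq_zero.1 h7 with h8 | h8
  · exact ⟨1, by norm_num, by rw [pow_one]; exact sub_eq_zero.1 h8⟩
  · exact ⟨2, by norm_num, sub_eq_zero.1 h8⟩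

/-! ### the endomorphism -/

theorem eps_pm : ∀ r : Fin 72, TwE6Basic.epsE r = 1 ∨ TwE6Basic.epsE r = -1 := by decide +kernel

theorem sg_x2 [CharP K 2] (φ : K →+* K) (r : Fin 72) (t : K) :
    sg φ (xG hE6 r.val t) = xG hE6 (rho r).val (φ t) := by
  have h := sg_x φ r t
  have h1 : ((symmE6.ε r : ℤ) : K) = 1 := by
    rcases eps_pm r with h2 | h2
    · have h3 : symmE6.ε r = 1 := h2
      rw [h3, Int.cast_one]
    · have h3 : symmE6.ε r = -1 := h2
      rw [h3, Int.cast_neg, Int.cast_one]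
      exact CharTwo.neg_eq 1
  rw [h1, one_mul] at h
  exact h

theorem comm_rho : ∀ r : Fin 72, rho r = r ∨ ((rho r).val ≠ r.val ∧ (rho r).val ≠ chevE6.neg r.val ∧
    chevE6.commTerms r.val (rho r).val = []) := by decide +kernel

theorem V_rho : ∀ r : Fin 72, V chevE6 J (rho r).val = V chevE6 J r.val := by decide +kernel

theorem commute_rho (r : Fin 72) (t s : K) : xG hE6 r.val t * xG hE6 (rho r).val s =
    xG hE6 (rho r).val s * xG hE6 r.val t := by
  rcases comm_rho r with h | ⟨h1, h2, h3⟩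
  · rw [h, xG_add, xG_add, add_comm]
  · exact (commute_of_nil hp r.2 (rho r).2 h1 h2 h3 t s).eq

section mem

variable [CharP K 2] {φ : K →+* K}

theorem one_mem_long {r : Fin 72} (hr : rho r = r) :
    xG hE6 r.val (1 : K) ∈ R chevE6 hp K J (sg φ) (V chevE6 J r.val) := by
  refine ⟨mem_rspan (xG (F := K) hp.inList) (S := {k | k < chevE6.nroots ∧ V chevE6 J k = V chevE6 J r.val})
    ⟨r.2, rfl⟩ 1, ?_⟩
  show sg φ (xG hE6 r.val 1) = xG hE6 r.val 1
  rw [sg_x2, hr, map_one]

theorem mem_short (r : Fin 72) {t s : K} (hφ : ∀ x, φ x = x ^ 2) (hts : s = t ^ 2) (hst : t = s ^ 2) :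
    xG hE6 r.val t * xG hE6 (rho r).val s ∈ R chevE6 hp K J (sg φ) (V chevE6 J r.val) := by
  refine ⟨mul_mem (mem_rspan (xG (F := K) hp.inList)
    (S := {k | k < chevE6.nroots ∧ V chevE6 J k = V chevE6 J r.val}) ⟨r.2, rfl⟩ t)
    (mem_rspan (xG (F := K) hp.inList)
    (S := {k | k < chevE6.nroots ∧ V chevE6 J k = V chevE6 J r.val}) ⟨(rho r).2, V_rho r⟩ s), ?_⟩
  show sg φ (xG hE6 r.val t * xG hE6 (rho r).val s) = xG hE6 r.val t * xG hE6 (rho r).val s
  rw [map_mul, sg_x2, sg_x2, TwE6Basic.rho_rho, hφ, hφ, ← hts, ← hst, commute_rho]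

/-- the elements of a long relative root group -/
theorem long_cases (r : Fin 72) (hr : rho r = r) (hV : ∀ k < chevE6.nroots, (V chevE6 J k = V chevE6 J r.val ↔ k ∈ [r.val]))
    (hφ : ∀ x, φ x = x ^ 2) {g : GL chevE6.Idx K} (hg : g ∈ R chevE6 hp K J (sg φ) (V chevE6 J r.val)) :
    g = 1 ∨ g = xG hE6 r.val 1 := by
  rw [R_eq hV (fun k hk => by rw [List.mem_singleton.1 hk]; exact r.2)] at hg
  obtain ⟨h1, h2⟩ := hg
  obtain ⟨t, ht⟩ := exists_lprod (x := xG (F := K) hp.inList) (fun r t u => (xG_add hp.inList r t u).symm)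
    (List.nodup_singleton _) ⟨by simp, trivial⟩ h1
  have h3 : g = xG hE6 r.val (t r.val) := by
    rw [ht, lprod_cons, lprod_nil, mul_one]
  have h4 : sg φ g = g := h2
  rw [h3, sg_x2, hr, hφ] at h4
  have h5 : (t r.val) ^ 2 = t r.val := TwE6Basic.x_injective r.2 h4
  have h6 : t r.val * (t r.val - 1) = 0 := by linear_combination h5
  rcases mul_eq_zero.1 h6 with h7 | h7
  · left
    rw [h3, h7]
    exact xG_zero hE6 _
  · right
    rw [h3, sub_eq_zero.1 h7]

/-- the elements of a short relative root group -/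
theorem short_cases [Fintype K] (hK : Fintype.card K = 2 ^ 2) {ω : K} (hω : ω ^ 2 + ω + 1 = 0) (r : Fin 72)
    (hr : r.val ≠ (rho r).val)
    (hV : ∀ k < chevE6.nroots, (V chevE6 J k = V chevE6 J r.val ↔ k ∈ [r.val, (rho r).val]))
    (hne : ∀ i < 3, xG hE6 r.val (ω ^ i) ≠ xG hE6 (rho r).val (ω ^ (2 * i % 3)))
    (hφ : ∀ x, φ x = x ^ 2) {g : GL chevE6.Idx K} (hg : g ∈ R chevE6 hp K J (sg φ) (V chevE6 J r.val)) :
    g = 1 ∨ ∃ i < 3, g = xG hE6 r.val (ω ^ i) * xG hE6 (rho r).val (ω ^ (2 * i % 3)) := by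
  have h4 : ∀ t : K, t ^ 4 = t := fun t => by
    have := FiniteField.pow_card t
    rwa [hK] at this
  rw [R_eq hV (fun k hk => by
    rcases List.mem_cons.1 hk with rfl | hk
    · exact r.2
    · rw [List.mem_singleton.1 hk]; exact (rho r).2)] at hg
  obtain ⟨h1, h2⟩ := hg
  have hgood : Good (xG (F := K) hp.inList) [r.val, (rho r).val] := by
    refine ⟨fun s hs t u => ?_, ⟨by simp, trivial⟩⟩
    rw [List.mem_singleton] at hs
    subst hs
    have : ⁅xG (F := K) hp.inList r.val t, xG hp.inList (rho r).val u⁆ = 1 := by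
      rw [commutatorElement_eq_one_iff_mul_comm]
      exact commute_rho r t u
    rw [this]
    exact one_mem _
  obtain ⟨c, hc⟩ := exists_lprod (x := xG (F := K) hp.inList) (fun r t u => (xG_add hp.inList r t u).symm)
    (by simp [hr]) hgood h1
  obtain ⟨t, ht⟩ : ∃ t, t = c r.val := ⟨_, rfl⟩
  obtain ⟨s, hs⟩ : ∃ s, s = c (rho r).val := ⟨_, rfl⟩
  have h3 : g = xG hE6 r.val t * xG hE6 (rho r).val s := by
    rw [hc, lprod_cons, lprod_cons, lprod_nil, mul_one, ht, hs]
  have h5 : sg φ g = g := h2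
  rw [h3, map_mul, sg_x2, sg_x2, TwE6Basic.rho_rho, hφ, hφ, ← commute_rho] at h5
  -- `x_r(s ^ 2 - t) = x_ρ(s - t ^ 2)`
  have h6 : xG hE6 r.val (s ^ 2 - t) = xG hE6 (rho r).val (s - t ^ 2) := by
    have e1 : xG hE6 r.val (s ^ 2 - t) = xG hE6 r.val (s ^ 2) * (xG hE6 r.val t)⁻¹ := by
      rw [xG_inv, xG_add, sub_eq_add_neg]
    have e2 : xG hE6 (rho r).val (s - t ^ 2) = xG hE6 (rho r).val s * (xG hE6 (rho r).val (t ^ 2))⁻¹ := by
      rw [xG_inv, xG_add, sub_eq_add_neg]
    have e3 := commute_rho r (s ^ 2) (t ^ 2)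
    rw [e1, e2]
    have e4 : xG hE6 r.val (s ^ 2) * xG hE6 (rho r).val (t ^ 2) = xG hE6 (rho r).val s * xG hE6 r.val t := by
      rw [h5, commute_rho]
    have e5 : xG hE6 r.val (s ^ 2) = xG hE6 (rho r).val s * xG hE6 r.val t * (xG hE6 (rho r).val (t ^ 2))⁻¹ := by
      rw [← e4, mul_inv_cancel_right]
    rw [e5]
    have e6 : xG hE6 r.val t * (xG hE6 (rho r).val (t ^ 2))⁻¹ = (xG hE6 (rho r).val (t ^ 2))⁻¹ * xG hE6 r.val t := by
      rw [xG_inv]; exact commute_rho r _ _
    rw [mul_assoc (xG hE6 (rho r).val s), e6]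
    group
  have h7 : s ^ 2 - t = 0 := by
    by_contra h0
    obtain ⟨i, hi, e⟩ := elts hK hω _ h0
    apply hne i hi
    rw [← e, h6]
    congr 1
    have h8 : (s ^ 2 - t) ^ 2 = s - t ^ 2 := by
      have h9 := h4 s
      have h10 : (2 : K) = 0 := CharTwo.two_eq_zero
      linear_combination h9 + (t ^ 2 - s ^ 2 * t) * h10
    rw [← h8, e, ← pow_mul, mul_comm i 2]
    conv_lhs => rw [← Nat.mod_add_div (2 * i) 3, pow_add, pow_mul, pow_three hω, one_pow, mul_one]
  have h8 : t = s ^ 2 := (sub_eq_zero.1 h7).symm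
  have h9 : s = t ^ 2 := by rw [h8, ← pow_mul]; exact (h4 s).symm
  by_cases ht0 : t = 0
  · left
    rw [h3, h9, ht0, zero_pow two_ne_zero, xG_zero, xG_zero, mul_one]
  · right
    obtain ⟨i, hi, e⟩ := elts hK hω t ht0
    refine ⟨i, hi, ?_⟩
    rw [h3, h9, e, ← pow_mul, mul_comm i 2]
    congr 2
    conv_lhs => rw [← Nat.mod_add_div (2 * i) 3, pow_add, pow_mul, pow_three hω, one_pow, mul_one]

end mem

end Cfsg.Agent.H891.TE6
end

private theorem dce_570f62b71d81 : _root_.True := by
  try have : _root_.True := by simp only [_root_.Cfsg.Agent.H891.TE6.Eng.msk.eq_1]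
  try have : _root_.True := by simp only [_root_.Cfsg.Agent.H891.TE6.Eng.msk.eq_def]
  try have : _root_.True := by simp only [_root_.Cfsg.Agent.H891.TE6.Eng.bt.eq_1]
  try have : _root_.True := by simp only [_root_.Cfsg.Agent.H891.TE6.Eng.msk.eq_2]
  exact _root_.True.intro
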